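import Cfsg.Agent.H960.TL.Red
import Cfsg.Agent.H376.TL.RankOne
import Cfsg.Agent.H324.TL.Pow
import Cfsg.Agent.H117.TLc
import Cfsg.Agent.H130.TL.Uni
import Cfsg.Agent.H781.TC6.Def

/-!
# Theorem L (helper960)

`fac` : `F` a finite field with at least three elements, `n ≥ 3`, `f`, `g` monic irreducible of degree `n` and constant term
`(-1) ^ n`, `f` not a twisted reciprocal of `g`: every nonscalar matrix of determinant `1` is a product of two matrices with
characteristic polynomials `f` and `g`. `tlf` : the form of `H781.TC6`.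
-/

set_option autoImplicit false
set_option linter.unusedSectionVars false

namespace Cfsg.Agent.H960.TL

open Matrix Polynomial Module
open Cfsg.Agent.H957.TL (Fac)

variable {F : Type*} [Field F] {n : ℕ}

/-- **Theorem L** -/
theorem fac [Finite F] (h3 : 3 ≤ Nat.card F) (hn : 3 ≤ n) {f g : F[X]} (hf : f.Monic) (hg : g.Monic)
    (hfn : f.natDegree = n) (hgn : g.natDegree = n) (hfi : Irreducible f) (hgi : Irreducible g)
    (hf0 : (-1) ^ n * f.coeff 0 = 1) (hg0 : (-1) ^ n * g.coeff 0 = 1)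
    (hex : ∀ (X : Matrix (Fin n) (Fin n) F) (c : F), X.charpoly = f → (c • X⁻¹).charpoly ≠ g)
    (A : Matrix (Fin n) (Fin n) F) (hA : A.det = 1) (hns : ∀ c : F, A ≠ c • (1 : Matrix (Fin n) (Fin n) F)) :
    Fac A f g := by
  have hs : ((-1 : F) ^ n) * (-1) ^ n = 1 := by rw [← mul_pow]; simp
  have h0 : f.coeff 0 * g.coeff 0 = 1 := by
    calc f.coeff 0 * g.coeff 0 = (((-1 : F) ^ n) * (-1) ^ n) * (f.coeff 0 * g.coeff 0) := by rw [hs, one_mul]
      _ = ((-1) ^ n * f.coeff 0) * ((-1) ^ n * g.coeff 0) := by ring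
      _ = 1 := by rw [hf0, hg0, one_mul]
  refine fac_of h3 hn hf hg hfn hgn hfi hgi hf0 hg0 ?_ ?_ ?_ A hA hns
  · intro A h m hA hh hi hd hm hz
    have hA0 : A.det ≠ 0 := by rw [hA]; exact one_ne_zero
    have h0A : f.coeff 0 * g.coeff 0 = A.det := by rw [h0, hA]
    by_cases h4 : n ≠ 4 ∨ 3 ≤ h.natDegree
    · exact Cfsg.Agent.H324.TL.fac_pow (by omega) A hA0 h hi hh hd hm hz h4 hf hg hfn hgn h0A
    · push Not at h4
      obtain ⟨rfl, h5⟩ := h4
      have h2d : h.natDegree = 2 := by omega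
      have hdeg : A.charpoly.natDegree = 4 := by rw [A.charpoly_natDegree_eq_dim, Fintype.card_fin]
      have hnm : 4 = m * h.natDegree := by rw [← hdeg, hm, hh.natDegree_pow]
      obtain rfl : m = 2 := by
        rw [h2d] at hnm
        omega
      exact Cfsg.Agent.H117.TLc.fac_four h3 A hi hh h2d hm hz hA0 hf hg hfn hgn h0A
  · intro A a hA ha hr
    obtain ⟨X₀, hX₀⟩ := exists_mat f hf hfn
    exact Cfsg.Agent.H376.TL.factor_rank_one (by omega) A a ha hr f g hfi hg hgn (by rw [h0, hA]) X₀ hX₀ (hex X₀ a hX₀)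
  · intro A a hA ha h1 h2
    obtain ⟨k, rfl⟩ : ∃ k, n = k + 3 := ⟨n - 3, by omega⟩
    have e : a • (1 : Matrix (Fin (k + 3)) (Fin (k + 3)) F) = Matrix.scalar (Fin (k + 3)) a := by
      ext i j
      simp [Matrix.one_apply, diagonal_apply]
    exact Cfsg.Agent.H130.TL.uni (Cfsg.Agent.H324.TL.exists_a (F := F) (by omega)) A ha h1 (by rw [e]; exact h2) hf hfn hg
      hgn (by rw [h0, hA])

/-- Theorem L in the form of `H781.TC6` -/
theorem tlf [Finite F] (h3 : 3 ≤ Nat.card F) (hn : 3 ≤ n) {N : ℕ} {f : F[X]} (hf : H781.TC6.GF n N f) :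
    H781.TC6.TLf n f := fun A hA hns =>
  fac h3 hn hf.monic hf.monic hf.deg hf.deg hf.irr hf.irr hf.c0 hf.c0 hf.ex A hA hns

end Cfsg.Agent.H960.TL
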