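import Cfsg.Agent.H330.GowCover
import Cfsg.Agent.H400.LieLocal
import Cfsg.Agent.KFacts.RgdFiltClass
import Cfsg.Agent.Nodes.RGDTypeA

/-!
# Theorem L, the semisimple isotypic case (helper960)

* `torAb` : the torus of `PSL_n(q)` has an abelian preimage in `SL_n(q)`;
* `gow_sl` : Gow's theorem for `SL_n(q)`, `n ≥ 3`: every noncentral element of order prime to `p` is a product of conjugates
  of two given elements with centralisers of order prime to `p`;
* `fac_isotypic` : a matrix `A` of determinant `1` with `p(A) = 0`, `p` irreducible of degree `≥ 2`, is a product of two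
  matrices with given irreducible characteristic polynomials `f`, `g` of constant term `(-1) ^ n`.
-/

set_option autoImplicit false
set_option linter.unusedSectionVars false

namespace Cfsg.Agent.H960.TL

open Matrix Polynomial Subgroup
open Cfsg.Agent.Nodes.RGDTypeA (pr pr_surjective ker_pr rgd_psl G1_psl_eq_top T mem_T Mono)
open Cfsg.Agent.Nodes.RootsA (isCartan)
open Cfsg.Agent.LieRecognition.BNCox (cA)
open Cfsg.Agent.H330.GowCover (TorAb gow_cover_reg)

section Gow

variable {F : Type*} [Field F] {n : ℕ}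

theorem isCover (hn : 2 ≤ n) : H80.Fpf.IsCover (pr n F) where
  surj := pr_surjective
  central := ker_pr.le
  perf := LieClassical.SLGen.commutator_eq_top (by rw [Fintype.card_fin]; omega)

theorem comm_T {s t : SpecialLinearGroup (Fin (n + 1)) F} (hs : s ∈ T (Fin (n + 1)) F) (ht : t ∈ T (Fin (n + 1)) F) :
    s * t = t * s := by
  have h1 : ∀ g : SpecialLinearGroup (Fin (n + 1)) F, g ∈ T (Fin (n + 1)) F → ∃ d, g.1 = diagonal d := by
    intro g hg
    refine ⟨fun i => g.1 i i, ?_⟩
    ext i j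
    rw [diagonal_apply]
    split_ifs with h
    · rw [h]
    · by_contra h2
      exact h (mem_T.1 hg i j h2)
  obtain ⟨d, hd⟩ := h1 s hs
  obtain ⟨e, he⟩ := h1 t ht
  apply Subtype.ext
  show s.1 * t.1 = t.1 * s.1
  rw [hd, he, diagonal_mul_diagonal, diagonal_mul_diagonal]
  congr 1
  funext i
  exact mul_comm _ _

open Subgroup CoxeterSystem Cfsg.Agent.ChevalleyStructure.CoxeterGeom Cfsg.Agent.Tits.Roots
  Cfsg.Agent.Tits.RootComb Cfsg.Agent.Nodes.Comb Cfsg.Agent.Nodes.Reps Cfsg.Agent.Nodes.BNOf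
  Cfsg.Agent.FixBN.SplitRGD Cfsg.Agent.FixBN in
theorem torAb [Finite F] (hn : 2 ≤ n) {p : ℕ} [hp : Fact p.Prime] [CharP F p] : TorAb p (pr n F) := by
  have hsim : IsSimpleGroup (ProjectiveSpecialLinearGroup (Fin (n + 1)) F) :=
    LieClassical.SLGen.psl_isSimpleGroup (by rw [Fintype.card_fin]; omega)
  have : Finite (cA n).Group := Nodes.RootsA.finite_W (cA n).toCoxeterSystem (isCartan n)
  have R := rgd_psl (F := F) (p := p) (cA n).toCoxeterSystem (isCartan n)
  have hg := NodeRGD.gen_of_top R (G1_psl_eq_top (F := F) (cA n).toCoxeterSystem (isCartan n))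
  have hne : (R.bnPair hg).S.Nonempty := ⟨_, ⟨0, by omega⟩, rfl⟩
  have hs := split_of_rgd hp.out R hg (Cfsg.Agent.Tits.OfBN.normalCore_eq_bot (R.bnPair hg) hne)
  refine ⟨R.bnPair hg, _, _, hne, hs, le_sup_left, fun b hb => ?_, ?_⟩
  · obtain ⟨u, hu, hT⟩ := NodeRGD.cover R (show b ∈ RGD.B _ _ _ _ from hb)
    exact ⟨u, hu, u⁻¹ * b, hT, by group⟩
  · rintro a b ⟨s, hs, hsa⟩ ⟨t, ht, htb⟩
    have ha : s⁻¹ * a ∈ center (SpecialLinearGroup (Fin (n + 1)) F) := by
      rw [← ker_pr, MonoidHom.mem_ker, map_mul, map_inv, hsa, inv_mul_cancel]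
    have hb : t⁻¹ * b ∈ center (SpecialLinearGroup (Fin (n + 1)) F) := by
      rw [← ker_pr, MonoidHom.mem_ker, map_mul, map_inv, htb, inv_mul_cancel]
    have h1 := mem_center_iff.1 ha
    have h2 := mem_center_iff.1 hb
    have e1 : a = s * (s⁻¹ * a) := by group
    have e2 : b = t * (t⁻¹ * b) := by group
    calc a * b = s * ((s⁻¹ * a) * (t * (t⁻¹ * b))) := by group
      _ = s * ((t * (t⁻¹ * b)) * (s⁻¹ * a)) := by rw [h1]
      _ = (s * t) * ((t⁻¹ * b) * (s⁻¹ * a)) := by group
      _ = (t * s) * ((s⁻¹ * a) * (t⁻¹ * b)) := by rw [comm_T hs ht, h1]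
      _ = t * (s * (s⁻¹ * a)) * (t⁻¹ * b) := by group
      _ = (t * (s * (s⁻¹ * a))) * (t⁻¹ * b) := rfl
      _ = (t⁻¹ * b) * (t * (s * (s⁻¹ * a))) := by rw [← h2]
      _ = ((t⁻¹ * b) * t) * a := by group
      _ = (t * (t⁻¹ * b)) * a := by rw [h2]
      _ = b * a := by group

/-- **Gow's theorem for `SL_n(q)`** -/
theorem gow_sl [Finite F] (hn : 2 ≤ n) {p : ℕ} [hp : Fact p.Prime] [CharP F p]
    {x y z : SpecialLinearGroup (Fin (n + 1)) F}
    (hx : ¬ p ∣ Nat.card ↥(centralizer ({x} : Set (SpecialLinearGroup (Fin (n + 1)) F))))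
    (hy : ¬ p ∣ Nat.card ↥(centralizer ({y} : Set (SpecialLinearGroup (Fin (n + 1)) F))))
    (hz : z ∉ center (SpecialLinearGroup (Fin (n + 1)) F)) (hzr : ¬ p ∣ orderOf z) :
    ∃ g h : SpecialLinearGroup (Fin (n + 1)) F, g * x * g⁻¹ * (h * y * h⁻¹) = z := by
  have hsim : IsSimpleGroup (ProjectiveSpecialLinearGroup (Fin (n + 1)) F) :=
    LieClassical.SLGen.psl_isSimpleGroup (by rw [Fintype.card_fin]; omega)
  have hfin : Finite (ProjectiveSpecialLinearGroup (Fin (n + 1)) F) := Quotient.finite _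
  have hk : ¬ p ∣ Nat.card (pr n F).ker := by
    intro hd
    obtain ⟨⟨c, hc⟩, hco⟩ := exists_prime_orderOf_dvd_card' p hd
    rw [orderOf_mk] at hco
    rw [ker_pr, Matrix.SpecialLinearGroup.mem_center_iff] at hc
    obtain ⟨r, hr, hrc⟩ := hc
    have h1 : c ^ p = 1 := by rw [← hco]; exact pow_orderOf_eq_one c
    have h2 : (scalar (Fin (n + 1)) r) ^ p = 1 := by
      rw [hrc]
      have := congrArg (fun g : SpecialLinearGroup (Fin (n + 1)) F => g.1) h1
      simpa using this
    rw [← map_pow] at h2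
    have h3 : r ^ p = 1 := by
      have := congrFun (congrFun h2 0) 0
      simpa using this
    have h4 : (r - 1) ^ p = 0 := by rw [sub_pow_char, h3, one_pow, sub_self]
    have h5 : r = 1 := sub_eq_zero.1 (eq_zero_of_pow_eq_zero h4)
    have h6 : c = 1 := by
      apply Subtype.ext
      rw [← hrc, h5]
      simp
    rw [h6, orderOf_one] at hco
    exact hp.out.one_lt.ne hco
  exact gow_cover_reg (isCover hn) hk (torAb hn) (H400.LieLocal.locChar_of_filt
    (KFacts.RgdFiltClass.hasFilt_PSL n)) hx hy hz hzr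

end Gow

section Irr

variable {F : Type*} [Field F] {n : ℕ}

/-- a matrix with a given characteristic polynomial -/
theorem exists_mat (f : F[X]) (hf : f.Monic) {m : ℕ} (hm : f.natDegree = m) :
    ∃ A : Matrix (Fin m) (Fin m) F, A.charpoly = f := by
  subst hm
  set h := AdjoinRoot.powerBasis' hf with hh
  have hd : h.dim = f.natDegree := AdjoinRoot.powerBasis'_dim hf
  have h1 : (Algebra.leftMulMatrix h.basis h.gen).charpoly = minpoly F h.gen := charpoly_leftMulMatrix h
  have h2 : minpoly F h.gen = f := by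
    have h3 := AdjoinRoot.minpoly_powerBasis_gen_of_monic hf
    rw [AdjoinRoot.powerBasis_gen] at h3
    rw [hh, AdjoinRoot.powerBasis'_gen]
    exact h3
  refine ⟨Matrix.reindex (finCongr hd) (finCongr hd) (Algebra.leftMulMatrix h.basis h.gen), ?_⟩
  rw [Matrix.charpoly_reindex, h1, h2]

/-- a singular matrix in the centraliser of an irreducible matrix is zero -/
theorem eq_zero_of_comm {X N : Matrix (Fin n) (Fin n) F} (hX : Irreducible X.charpoly) (hc : N * X = X * N)
    (hN : N.det = 0) : N = 0 := by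
  obtain ⟨v, hv, hNv⟩ := exists_mulVec_eq_zero_iff.2 hN
  have hcom : ∀ h : F[X], N * aeval X h = aeval X h * N := by
    intro h
    have : Commute N (aeval X h) := by
      induction h using Polynomial.induction_on' with
      | add p q hp hq => rw [map_add]; exact hp.add_right hq
      | monomial k a =>
        rw [aeval_monomial]
        exact (Algebra.commute_algebraMap_right a N).mul_right ((show Commute N X from hc).pow_right k)
    exact this
  have hdeg : X.charpoly.natDegree = n := by rw [X.charpoly_natDegree_eq_dim, Fintype.card_fin]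
  let L : (Fin n → F) →ₗ[F] (Fin n → F) :=
    { toFun := fun c => aeval X ((degreeLTEquiv F n).symm c : F[X]) *ᵥ v
      map_add' := fun c d => by rw [map_add, Submodule.coe_add, map_add, add_mulVec]
      map_smul' := fun a c => by rw [map_smul, Submodule.coe_smul, map_smul, smul_mulVec]; rfl }
  have hL : Function.Injective L := by
    rw [injective_iff_map_eq_zero]
    intro c hc0
    by_contra hne
    set h : F[X] := ((degreeLTEquiv F n).symm c : F[X]) with hh
    have hh0 : h ≠ 0 := by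
      intro h0
      apply hne
      have : (degreeLTEquiv F n).symm c = 0 := Subtype.ext h0
      simpa using this
    have hlt : h.natDegree < X.charpoly.natDegree := by
      rw [hdeg]
      have h1 : h.degree < n := mem_degreeLT.1 ((degreeLTEquiv F n).symm c).2
      rw [degree_eq_natDegree hh0] at h1
      exact_mod_cast h1
    have hcop : IsCoprime X.charpoly h := by
      rw [hX.coprime_iff_not_dvd]
      intro hd
      have := natDegree_le_of_dvd hd hh0
      omega
    obtain ⟨a, b, hab⟩ := hcop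
    have h1 := congrArg (fun p => (aeval X p) *ᵥ v) hab
    have h2 : aeval X h *ᵥ v = 0 := hc0
    simp only [map_add, map_mul, map_one, aeval_self_charpoly, mul_zero, zero_add, one_mulVec,
      ← mulVec_mulVec, h2, mulVec_zero] at h1
    exact hv h1.symm
  have hLs : Function.Surjective L := LinearMap.injective_iff_surjective.1 hL
  apply Matrix.toLin'.injective
  rw [map_zero]
  apply LinearMap.ext
  intro w
  obtain ⟨c, rfl⟩ := hLs w
  show N *ᵥ (aeval X ((degreeLTEquiv F n).symm c : F[X]) *ᵥ v) = 0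
  rw [mulVec_mulVec, hcom, ← mulVec_mulVec, hNv, mulVec_zero]

theorem not_dvd_orderOf [Finite F] [NeZero n] {p : ℕ} [hp : Fact p.Prime] [CharP F p]
    {z : Matrix.SpecialLinearGroup (Fin n) F}
    (ψ : F[X]) (hψ : Irreducible ψ) (hz : aeval z.1 ψ = 0) : ¬ p ∣ orderOf z := by
  intro ⟨k, hk⟩
  have hfin : 0 < orderOf z := orderOf_pos z
  have hk0 : 0 < k := by
    rcases Nat.eq_zero_or_pos k with h | h
    · rw [h, mul_zero] at hk; omega
    · exact h
  have hk1 : z ^ k ≠ 1 := by
    intro h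
    have h1 := orderOf_le_of_pow_eq_one hk0 h
    have h2 := hp.out.two_le
    rw [hk] at h1
    nlinarith
  have hzk : z ^ (k * p) = 1 := by rw [mul_comm, ← hk]; exact pow_orderOf_eq_one z
  have h1 : (z.1 ^ k - 1) ^ p = 0 := by
    rw [sub_pow_char_of_commute p (Commute.one_right _), one_pow, ← pow_mul]
    have := congrArg (fun g : Matrix.SpecialLinearGroup (Fin n) F => g.1) hzk
    simp only [Matrix.SpecialLinearGroup.coe_pow, Matrix.SpecialLinearGroup.coe_one] at this
    rw [this, sub_self]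
  have h2 : aeval z.1 ((X ^ k - 1 : F[X]) ^ p) = 0 := by
    rw [map_pow, map_sub, map_pow, aeval_X, map_one, h1]
  by_cases hd : ψ ∣ X ^ k - 1
  · obtain ⟨h, hh⟩ := hd
    apply hk1
    apply Subtype.ext
    have h3 : aeval z.1 (X ^ k - 1 : F[X]) = 0 := by rw [hh, map_mul, hz, zero_mul]
    rw [map_sub, map_pow, aeval_X, map_one, sub_eq_zero] at h3
    rw [Matrix.SpecialLinearGroup.coe_pow, h3]; rfl
  · have hcop : IsCoprime ψ ((X ^ k - 1) ^ p) := ((hψ.coprime_iff_not_dvd).2 hd).pow_right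
    obtain ⟨a, b, hab⟩ := hcop
    have h3 := congrArg (aeval z.1) hab
    rw [map_add, map_mul, map_mul, hz, h2, mul_zero, mul_zero, map_one, zero_add] at h3
    apply hk1
    apply Subtype.ext
    rw [Matrix.SpecialLinearGroup.coe_pow, Matrix.SpecialLinearGroup.coe_one, ← mul_one (z.1 ^ k), ← h3, mul_zero]

theorem not_dvd_cent [Finite F] [NeZero n] {p : ℕ} [hp : Fact p.Prime] [CharP F p]
    {x : Matrix.SpecialLinearGroup (Fin n) F} (hx : Irreducible x.1.charpoly) :
    ¬ p ∣ Nat.card ↥(Subgroup.centralizer ({x} : Set (Matrix.SpecialLinearGroup (Fin n) F))) := by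
  intro hd
  obtain ⟨⟨c, hc⟩, hco⟩ := exists_prime_orderOf_dvd_card' p hd
  rw [Subgroup.orderOf_mk] at hco
  rw [Subgroup.mem_centralizer_singleton_iff] at hc
  have hcp : c ^ p = 1 := by rw [← hco]; exact pow_orderOf_eq_one c
  have h1 : (c.1 - 1) ^ p = 0 := by
    rw [sub_pow_char_of_commute p (Commute.one_right _), one_pow]
    have := congrArg (fun g : Matrix.SpecialLinearGroup (Fin n) F => g.1) hcp
    simp only [Matrix.SpecialLinearGroup.coe_pow, Matrix.SpecialLinearGroup.coe_one] at this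
    rw [this, sub_self]
  have h2 : (c.1 - 1).det = 0 := by
    have h3 := congrArg Matrix.det h1
    rw [det_pow, det_zero] at h3
    exact eq_zero_of_pow_eq_zero h3
  have h3 : c.1 - 1 = 0 := by
    refine eq_zero_of_comm hx ?_ h2
    have h4 := congrArg (fun g : Matrix.SpecialLinearGroup (Fin n) F => g.1) hc
    simp only [Matrix.SpecialLinearGroup.coe_mul] at h4
    rw [sub_mul, mul_sub, one_mul, mul_one]
    rw [h4]
  have h5 : c = 1 := Subtype.ext (sub_eq_zero.1 h3)
  rw [h5, orderOf_one] at hco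
  exact hp.out.one_lt.ne hco

/-- **Theorem L, semisimple isotypic case** -/
theorem fac_isotypic [Finite F] (hn : 3 ≤ n) (A : Matrix (Fin n) (Fin n) F) (hA : A.det = 1) (ψ : F[X])
    (hψ : Irreducible ψ) (hd : 2 ≤ ψ.natDegree) (hz : aeval A ψ = 0) {f g : F[X]} (hf : f.Monic) (hg : g.Monic)
    (hfn : f.natDegree = n) (hgn : g.natDegree = n) (hfi : Irreducible f) (hgi : Irreducible g)
    (hf0 : (-1) ^ n * f.coeff 0 = 1) (hg0 : (-1) ^ n * g.coeff 0 = 1) :
    ∃ X Y : Matrix (Fin n) (Fin n) F, X * Y = A ∧ X.charpoly = f ∧ Y.charpoly = g := by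
  obtain ⟨m, rfl⟩ : ∃ m, n = m + 1 := ⟨n - 1, by omega⟩
  obtain ⟨p, hp⟩ := CharP.exists F
  have hpp : Fact p.Prime := ⟨(CharP.char_is_prime_or_zero F p).resolve_right fun h => by
    subst h
    have := CharP.charP_to_charZero F
    exact not_injective_infinite_finite (fun k : ℕ => (k : F)) Nat.cast_injective⟩
  obtain ⟨X, hX⟩ := exists_mat f hf hfn
  obtain ⟨Y, hY⟩ := exists_mat g hg hgn
  have hXd : X.det = 1 := by rw [det_eq_sign_charpoly_coeff, hX, Fintype.card_fin, hf0]
  have hYd : Y.det = 1 := by rw [det_eq_sign_charpoly_coeff, hY, Fintype.card_fin, hg0]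
  have hzc : (⟨A, hA⟩ : Matrix.SpecialLinearGroup (Fin (m + 1)) F) ∉
      center (Matrix.SpecialLinearGroup (Fin (m + 1)) F) := by
    intro hc
    obtain ⟨r, -, hr⟩ := Matrix.SpecialLinearGroup.mem_center_iff.1 hc
    have h1 : algebraMap F (Matrix (Fin (m + 1)) (Fin (m + 1)) F) r = A := hr
    rw [← h1, aeval_algebraMap_apply, map_eq_zero_iff _ (algebraMap F (Matrix (Fin (m + 1)) (Fin (m + 1)) F)).injective]
      at hz
    have h2 : ψ.IsRoot r := by rw [IsRoot.def, ← coe_aeval_eq_eval]; exact hz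
    have h3 := degree_eq_one_of_irreducible_of_root hψ h2
    rw [degree_eq_natDegree hψ.ne_zero] at h3
    have h4 : ψ.natDegree = 1 := by exact_mod_cast h3
    omega
  obtain ⟨a, b, hab⟩ := gow_sl (p := p) (x := ⟨X, hXd⟩) (y := ⟨Y, hYd⟩) (z := ⟨A, hA⟩) (by omega : 2 ≤ m)
    (not_dvd_cent (by rw [hX]; exact hfi)) (not_dvd_cent (by rw [hY]; exact hgi)) hzc
    (not_dvd_orderOf ψ hψ hz)
  have hcj : ∀ (c : Matrix.SpecialLinearGroup (Fin (m + 1)) F) (M : Matrix (Fin (m + 1)) (Fin (m + 1)) F),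
      (c.1 * M * c⁻¹.1).charpoly = M.charpoly := by
    intro c M
    rw [charpoly_mul_comm, ← Matrix.mul_assoc]
    have : c⁻¹.1 * c.1 = 1 := congrArg (fun g : Matrix.SpecialLinearGroup (Fin (m + 1)) F => g.1) (inv_mul_cancel c)
    rw [this, Matrix.one_mul]
  refine ⟨a.1 * X * a⁻¹.1, b.1 * Y * b⁻¹.1, ?_, by rw [hcj, hX], by rw [hcj, hY]⟩
  exact congrArg (fun g : Matrix.SpecialLinearGroup (Fin (m + 1)) F => g.1) hab

end Irr

end Cfsg.Agent.H960.TL
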