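import Cfsg.Agent.H957.TL.Coprime
import Cfsg.Agent.H171.TL.Range
import Cfsg.Agent.H960.TL.Gow

/-!
# Theorem L, reduction to the three last cases (helper960)

* `primary_or` : the characteristic polynomial is a product of two coprime factors or a power of an irreducible one;
* `pow_ne_zero_of_rank` : a nilpotent matrix of rank `n - 1` is regular;
* `fac_of` : Theorem L (`f`, `g` irreducible of constant term `(-1) ^ n`) from the three last cases.
-/

set_option autoImplicit false
set_option linter.unusedSectionVars false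

namespace Cfsg.Agent.H960.TL

open Matrix Polynomial Module
open Cfsg.Agent.H957.TL (Fac fac_coprime)

variable {F : Type*} [Field F] {n : ℕ}

theorem primary_or (A : Matrix (Fin n) (Fin n) F) (hn : 0 < n) :
    (∃ p q : F[X], p.Monic ∧ q.Monic ∧ 0 < p.natDegree ∧ 0 < q.natDegree ∧ IsCoprime p q ∧ A.charpoly = p * q) ∨
      ∃ (h : F[X]) (m : ℕ), h.Monic ∧ Irreducible h ∧ A.charpoly = h ^ m := by
  have hm : A.charpoly.Monic := A.charpoly_monic
  have hdeg : A.charpoly.natDegree = n := by rw [A.charpoly_natDegree_eq_dim, Fintype.card_fin]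
  have hu : ¬ IsUnit A.charpoly := fun h => by
    have := natDegree_eq_zero_of_isUnit h
    omega
  obtain ⟨h, hmh, hih, hdh⟩ := exists_monic_irreducible_factor A.charpoly hu
  have hfin : FiniteMultiplicity h A.charpoly :=
    finiteMultiplicity_of_degree_pos_of_monic (natDegree_pos_iff_degree_pos.1 hih.natDegree_pos) hmh hm.ne_zero
  obtain ⟨q, hq, hnd⟩ := hfin.exists_eq_pow_mul_and_not_dvd
  set m := multiplicity h A.charpoly with hmdef
  have hqm : q.Monic := (hmh.pow m).of_mul_monic_left (hq ▸ hm)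
  have hcop : IsCoprime (h ^ m) q := ((hih.coprime_iff_not_dvd).2 hnd).pow_left
  rcases Nat.eq_zero_or_pos q.natDegree with h0 | h0
  · right
    refine ⟨h, m, hmh, hih, ?_⟩
    rw [hq, (Polynomial.Monic.natDegree_eq_zero hqm).1 h0, mul_one]
  · left
    refine ⟨h ^ m, q, hmh.pow m, hqm, ?_, h0, hcop, hq⟩
    rw [hmh.natDegree_pow]
    refine Nat.mul_pos (Nat.pos_of_ne_zero fun hm0 => ?_) hih.natDegree_pos
    rw [hm0, pow_zero, one_mul] at hq
    exact hnd (hq ▸ hdh)

theorem finrank_ker_comp_le {W : Type*} [AddCommGroup W] [Module F W] [Module.Finite F W]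
    (f g : W →ₗ[F] W) : finrank F (LinearMap.ker (f ∘ₗ g)) ≤ finrank F (LinearMap.ker f) + finrank F (LinearMap.ker g) := by
  let r : LinearMap.ker (f ∘ₗ g) →ₗ[F] LinearMap.ker f :=
    (g.comp (LinearMap.ker (f ∘ₗ g)).subtype).codRestrict _ (fun w => w.2)
  have h1 := r.finrank_range_add_finrank_ker
  have h2 : finrank F (LinearMap.range r) ≤ finrank F (LinearMap.ker f) := Submodule.finrank_le _
  have h3 : finrank F (LinearMap.ker r) ≤ finrank F (LinearMap.ker g) := by
    refine LinearMap.finrank_le_finrank_of_injective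
      (f := ((LinearMap.ker (f ∘ₗ g)).subtype.comp (LinearMap.ker r).subtype).codRestrict (LinearMap.ker g) ?_) ?_
    · intro w
      have := congrArg Subtype.val (LinearMap.mem_ker.1 w.2)
      exact this
    · intro a b hab
      have h4 : (a.1.1 : W) = b.1.1 := congrArg (fun z : LinearMap.ker g => (z : W)) hab
      exact Subtype.ext (Subtype.ext h4)
  omega

theorem finrank_ker_pow_le {W : Type*} [AddCommGroup W] [Module F W] [Module.Finite F W]
    (f : W →ₗ[F] W) (k : ℕ) : finrank F (LinearMap.ker (f ^ k)) ≤ k * finrank F (LinearMap.ker f) := by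
  induction k with
  | zero =>
    rw [pow_zero, zero_mul, Nat.le_zero]
    have : LinearMap.ker (1 : W →ₗ[F] W) = ⊥ := LinearMap.ker_id
    rw [this, finrank_bot]
  | succ k ih =>
    have h1 : f ^ (k + 1) = (f ^ k) ∘ₗ f := by rw [pow_succ]; rfl
    rw [h1]
    have h2 := finrank_ker_comp_le (f ^ k) f
    rw [Nat.add_mul, one_mul]
    omega

/-- a matrix of rank `n - 1` has nonzero `(n-1)`-th power -/
theorem pow_ne_zero_of_rank {N : Matrix (Fin n) (Fin n) F} (hr : N.rank + 1 = n) : N ^ (n - 1) ≠ 0 := by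
  intro h0
  have h1 := LinearMap.finrank_range_add_finrank_ker (Matrix.toLin' N)
  rw [finrank_fin_fun] at h1
  have h2 : N.rank = finrank F (LinearMap.range (Matrix.toLin' N)) := rfl
  have h3 : finrank F (LinearMap.ker (Matrix.toLin' N)) = 1 := by omega
  have h4 := finrank_ker_pow_le (Matrix.toLin' N) (n - 1)
  rw [← Matrix.toLin'_pow, h0, map_zero, LinearMap.ker_zero, finrank_top, finrank_fin_fun, h3] at h4
  omega

theorem rank_lt {A : Matrix (Fin n) (Fin n) F} (h : A.det = 0) : A.rank < n := by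
  obtain ⟨v, hv, hAv⟩ := exists_mulVec_eq_zero_iff.2 h
  have h1 := LinearMap.finrank_range_add_finrank_ker (Matrix.toLin' A)
  rw [finrank_fin_fun] at h1
  have h2 : A.rank = finrank F (LinearMap.range (Matrix.toLin' A)) := rfl
  have h3 : 0 < finrank F (LinearMap.ker (Matrix.toLin' A)) := by
    rw [finrank_pos_iff]
    refine ⟨⟨v, ?_⟩, 0, fun h => hv (congrArg Subtype.val h)⟩
    rw [LinearMap.mem_ker, toLin'_apply, hAv]
  omega

theorem rank_eq_zero {A : Matrix (Fin n) (Fin n) F} (h : A.rank = 0) : A = 0 := by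
  have h1 : LinearMap.range (Matrix.toLin' A) = ⊥ := Submodule.finrank_eq_zero.1 h
  exact (map_eq_zero_iff _ (Matrix.toLin' (R := F) (m := Fin n) (n := Fin n)).injective).1 (LinearMap.range_eq_bot.1 h1)

/-- **Theorem L from the three last cases** -/
theorem fac_of [Finite F] (h3 : 3 ≤ Nat.card F) (hn : 3 ≤ n) {f g : F[X]} (hf : f.Monic) (hg : g.Monic)
    (hfn : f.natDegree = n) (hgn : g.natDegree = n) (hfi : Irreducible f) (hgi : Irreducible g)
    (hf0 : (-1) ^ n * f.coeff 0 = 1) (hg0 : (-1) ^ n * g.coeff 0 = 1)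
    (HB : ∀ (A : Matrix (Fin n) (Fin n) F) (h : F[X]) (m : ℕ), A.det = 1 → h.Monic → Irreducible h → 2 ≤ h.natDegree →
      A.charpoly = h ^ m → aeval A h ≠ 0 → Fac A f g)
    (HT : ∀ (A : Matrix (Fin n) (Fin n) F) (a : F), A.det = 1 → a ≠ 0 →
      (A - Matrix.scalar (Fin n) a).rank = 1 → Fac A f g)
    (HU : ∀ (A : Matrix (Fin n) (Fin n) F) (a : F), A.det = 1 → a ≠ 0 →
      A.charpoly = (X - C a) ^ n → (A - Matrix.scalar (Fin n) a) ^ (n - 1) ≠ 0 → Fac A f g)
    (A : Matrix (Fin n) (Fin n) F) (hA : A.det = 1) (hns : ∀ c : F, A ≠ c • (1 : Matrix (Fin n) (Fin n) F)) :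
    Fac A f g := by
  have hs : ((-1 : F) ^ n) * (-1) ^ n = 1 := by rw [← mul_pow]; simp
  have h0 : f.coeff 0 * g.coeff 0 = A.det := by
    rw [hA]
    calc f.coeff 0 * g.coeff 0 = (((-1 : F) ^ n) * (-1) ^ n) * (f.coeff 0 * g.coeff 0) := by rw [hs, one_mul]
      _ = ((-1) ^ n * f.coeff 0) * ((-1) ^ n * g.coeff 0) := by ring
      _ = 1 := by rw [hf0, hg0, one_mul]
  have hA0 : A.det ≠ 0 := by rw [hA]; exact one_ne_zero
  rcases primary_or A (by omega) with ⟨p, q, hp, hq, hp0, hq0, hco, hpq⟩ | ⟨h, m, hh, hi, hm⟩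
  · exact fac_coprime A hA0 hp hq hp0 hq0 hco hpq hf hg hfn hgn h0
  by_cases hd : 2 ≤ h.natDegree
  · by_cases hz : aeval A h = 0
    · exact fac_isotypic hn A hA h hi hd hz hf hg hfn hgn hfi hgi hf0 hg0
    · exact HB A h m hA hh hi hd hm hz
  · have hd1 : h.natDegree = 1 := by
      have := hi.natDegree_pos
      omega
    obtain ⟨a, rfl⟩ : ∃ a, h = X - C a := by
      refine ⟨-h.coeff 0, ?_⟩
      rw [map_neg, sub_neg_eq_add]
      exact hh.eq_X_add_C hd1
    have hmn : m = n := by
      have h4 : A.charpoly.natDegree = n := by rw [A.charpoly_natDegree_eq_dim, Fintype.card_fin]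
      rw [hm, (monic_X_sub_C a).natDegree_pow, natDegree_X_sub_C, mul_one] at h4
      exact h4
    rw [hmn] at hm
    have hN : (A - Matrix.scalar (Fin n) a) ^ n = 0 := by
      have h4 := aeval_self_charpoly A
      rw [hm, map_pow, map_sub, aeval_X, aeval_C] at h4
      exact h4
    have hne : Nonempty (Fin n) := ⟨⟨0, by omega⟩⟩
    have ha : a ≠ 0 := by
      rintro rfl
      have h5 : A ^ n = 0 := by simpa using hN
      have h6 := congrArg Matrix.det h5
      rw [det_pow, hA, one_pow, det_zero] at h6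
      exact one_ne_zero h6
    have hNd : (A - Matrix.scalar (Fin n) a).det = 0 := by
      have h6 := congrArg Matrix.det hN
      rw [det_pow, det_zero] at h6
      exact eq_zero_of_pow_eq_zero h6
    have hr := rank_lt hNd
    rcases Nat.lt_or_ge (A - Matrix.scalar (Fin n) a).rank 2 with h2 | h2
    · rcases Nat.lt_or_ge (A - Matrix.scalar (Fin n) a).rank 1 with h1 | h1
      · exfalso
        apply hns a
        have h7 := rank_eq_zero (Nat.lt_one_iff.1 h1)
        rw [sub_eq_zero] at h7
        rw [h7]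
        ext i j
        simp [Matrix.one_apply, diagonal_apply]
      · exact HT A a hA ha (by omega)
    · rcases Nat.lt_or_ge n ((A - Matrix.scalar (Fin n) a).rank + 2) with h4 | h4
      · exact HU A a hA ha hm (pow_ne_zero_of_rank (by omega))
      · exact Cfsg.Agent.H171.TL.fac_eig h3 A hA0 a h2 h4 hf hg hfn hgn h0

end Cfsg.Agent.H960.TL
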